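import Groth.Prelude.Def_Found
import Mathlib

/-! N-1, N-2: change of fraction field, localization, local nature. -/

set_option autoImplicit false

universe u v

namespace Groth.Agent.N2Lib

variable {R : Type u} [CommRing R] [IsDomain R]

theorem finite_integralClosure_of_isN1 (h : CAlg.IsN1 R) (K : Type v) [Field K] [Algebra R K]
    [IsFractionRing R K] : Module.Finite R (integralClosure R K) :=
  haveI : Module.Finite R (integralClosure R (FractionRing R)) := h
  Module.Finite.equiv (AlgEquiv.mapIntegralClosure (FractionRing.algEquiv R K)).toLinearEquiv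

theorem finite_integralClosure_of_isN2 (h : CAlg.IsN2 R) (K L : Type u) [Field K] [Algebra R K]
    [IsFractionRing R K] [Field L] [Algebra R L] [Algebra K L] [IsScalarTower R K L]
    [FiniteDimensional K L] : Module.Finite R (integralClosure R L) := by
  let e := FractionRing.algEquiv R K
  let _ : Algebra (FractionRing R) L := ((algebraMap K L).comp e.toAlgHom.toRingHom).toAlgebra
  have : IsScalarTower R (FractionRing R) L := IsScalarTower.of_algebraMap_eq fun r => by
    rw [RingHom.algebraMap_toAlgebra, RingHom.comp_apply]
    simp [← IsScalarTower.algebraMap_apply R K L]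
  have : FiniteDimensional (FractionRing R) L := by
    let _ : Algebra (FractionRing R) K := e.toAlgHom.toRingHom.toAlgebra
    have : IsScalarTower (FractionRing R) K L := IsScalarTower.of_algebraMap_eq fun _ => rfl
    have : Module.Finite (FractionRing R) K :=
      Module.Finite.of_surjective (Algebra.linearMap (FractionRing R) K) e.surjective
    exact Module.Finite.trans K L
  exact h L this

theorem isN1_of_finite (K : Type v) [Field K] [Algebra R K] [IsFractionRing R K]
    (h : Module.Finite R (integralClosure R K)) : CAlg.IsN1 R :=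
  Module.Finite.equiv (AlgEquiv.mapIntegralClosure (FractionRing.algEquiv R K).symm).toLinearEquiv

theorem isFractionRing_of_isLocalization (M : Submonoid R) (S : Type v) [CommRing S] [IsDomain S]
    [Algebra R S] [IsLocalization M S] : IsFractionRing R (FractionRing S) := by
  have hM : M ≤ nonZeroDivisors R := le_nonZeroDivisors_of_noZeroDivisors fun h0 =>
    not_isUnit_zero (M₀ := S) (by simpa using IsLocalization.map_units S (⟨0, h0⟩ : M))
  have hinj : Function.Injective (algebraMap R (FractionRing S)) := by
    rw [IsScalarTower.algebraMap_eq R S (FractionRing S)]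
    exact (IsFractionRing.injective S (FractionRing S)).comp (IsLocalization.injective S hM)
  have := (faithfulSMul_iff_algebraMap_injective R (FractionRing S)).mpr hinj
  refine IsFractionRing.of_field R _ fun z => ?_
  obtain ⟨a, b, -, rfl⟩ := IsFractionRing.div_surjective (A := S) z
  obtain ⟨⟨a₀, s⟩, ha⟩ := IsLocalization.surj M a
  obtain ⟨⟨b₀, t⟩, hb⟩ := IsLocalization.surj M b
  refine ⟨a₀ * t, b₀ * s, ?_⟩
  rw [IsScalarTower.algebraMap_apply R S (FractionRing S), IsScalarTower.algebraMap_apply R S (FractionRing S) (b₀ * s),
    map_mul (algebraMap R S), map_mul (algebraMap R S), ← ha, ← hb, map_mul, map_mul, map_mul, map_mul]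
  have hs : algebraMap S (FractionRing S) (algebraMap R S s) ≠ 0 :=
    ((IsLocalization.map_units S s).map _).ne_zero
  have ht : algebraMap S (FractionRing S) (algebraMap R S t) ≠ 0 :=
    ((IsLocalization.map_units S t).map _).ne_zero
  field_simp

omit [IsDomain R] in
theorem finite_integralClosure_localization (M : Submonoid R) (S : Type u) [CommRing S] [Algebra R S]
    [IsLocalization M S] (L : Type u) [CommRing L] [Algebra R L] [Algebra S L] [IsScalarTower R S L]
    [Module.Finite R (integralClosure R L)] : Module.Finite S (integralClosure S L) := by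
  let ι : integralClosure R L →ₗ[R] integralClosure S L :=
    { toFun := fun x => ⟨x.1, IsIntegral.tower_top (A := S) x.2⟩
      map_add' := fun _ _ => rfl
      map_smul' := fun _ _ => rfl }
  obtain ⟨G, hG⟩ := ‹Module.Finite R (integralClosure R L)›.fg_top
  refine ⟨Submodule.fg_def.mpr ⟨ι '' G, G.finite_toSet.image _, eq_top_iff.mpr fun x _ => ?_⟩⟩
  obtain ⟨m, hm⟩ := IsIntegral.exists_multiple_integral_of_isLocalization (S := L) M (Rₘ := S) x.1 x.2
  have h1 : ι ⟨_, hm⟩ ∈ Submodule.span S (ι '' G) := by
    refine Submodule.span_le_restrictScalars R S _ ?_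
    rw [← Submodule.map_span, hG, Submodule.map_top]
    exact ⟨_, rfl⟩
  have hu : IsUnit (algebraMap R S (m : R)) := IsLocalization.map_units S m
  have h2 : ι ⟨_, hm⟩ = algebraMap R S (m : R) • x := Subtype.ext (algebraMap_smul S (m : R) (x : L)).symm
  rw [h2] at h1
  exact (Submodule.smul_mem_iff_of_isUnit _ hu).mp h1

theorem isN1_of_isLocalization (M : Submonoid R) (S : Type u) [CommRing S] [IsDomain S] [Algebra R S]
    [IsLocalization M S] (h : CAlg.IsN1 R) : CAlg.IsN1 S := by
  have := isFractionRing_of_isLocalization M S
  have := finite_integralClosure_of_isN1 h (FractionRing S)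
  exact finite_integralClosure_localization M S (FractionRing S)

theorem isN2_of_isLocalization (M : Submonoid R) (S : Type u) [CommRing S] [IsDomain S] [Algebra R S]
    [IsLocalization M S] (h : CAlg.IsN2 R) : CAlg.IsN2 S := by
  intro L _ _ _ _ hfin
  have := isFractionRing_of_isLocalization M S
  let _ : Algebra R L := ((algebraMap S L).comp (algebraMap R S)).toAlgebra
  have : IsScalarTower R S L := IsScalarTower.of_algebraMap_eq fun _ => rfl
  have : IsScalarTower R (FractionRing S) L := IsScalarTower.of_algebraMap_eq fun r => by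
    rw [IsScalarTower.algebraMap_apply R S (FractionRing S), ← IsScalarTower.algebraMap_apply S (FractionRing S) L]
    rfl
  have := finite_integralClosure_of_isN2 h (FractionRing S) L
  exact finite_integralClosure_localization M S L

omit [IsDomain R] in
theorem finite_integralClosure_of_cover {ι : Type*} [Finite ι] (f : ι → R)
    (hf : Ideal.span (Set.range f) = ⊤) (L : Type u) [CommRing L] [Algebra R L]
    (h : ∀ i, ∃ G : Finset L, (∀ g ∈ G, IsIntegral R g) ∧
      ∀ x : L, IsIntegral R x → ∃ n : ℕ, f i ^ n • x ∈ Submodule.span R (G : Set L)) :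
    Module.Finite R (integralClosure R L) := by
  choose G hG hGx using h
  let N := Submodule.span R (⋃ i, (G i : Set L))
  have hN : N.FG := Submodule.fg_def.mpr ⟨_, Set.finite_iUnion fun i => (G i).finite_toSet, rfl⟩
  have heq : N = Subalgebra.toSubmodule (integralClosure R L) := by
    refine le_antisymm (Submodule.span_le.mpr (Set.iUnion_subset fun i g hg => hG i g hg)) fun x hx => ?_
    choose n hn using fun i => hGx i x hx
    have htop : Ideal.span (Set.range fun i => f i ^ n i) = ⊤ := by
      rw [Ideal.eq_top_iff_one]
      by_contra hc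
      obtain ⟨P, hP, hle⟩ := Ideal.exists_le_maximal _ (mt (Ideal.eq_top_iff_one _).mp hc)
      refine hP.ne_top (top_le_iff.mp (hf ▸ Ideal.span_le.mpr ?_))
      rintro - ⟨i, rfl⟩
      exact hP.isPrime.mem_of_pow_mem (n i) (hle (Ideal.subset_span ⟨i, rfl⟩))
    refine Submodule.mem_of_span_top_of_smul_mem N _ htop x ?_
    rintro ⟨-, i, rfl⟩
    exact Submodule.span_mono (Set.subset_iUnion (fun i => (G i : Set L)) i) (hn i)
  exact Module.Finite.iff_fg.mpr (heq ▸ hN)

omit [IsDomain R] in
/-- Local generators for the integral closure from an away localization. -/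
theorem exists_gens_of_away {f : R} (Rf : Type u) [CommRing Rf] [Algebra R Rf] [IsLocalization.Away f Rf]
    (L : Type u) [CommRing L] [Algebra R L] [Algebra Rf L] [IsScalarTower R Rf L]
    [Module.Finite Rf (integralClosure Rf L)] :
    ∃ G : Finset L, (∀ g ∈ G, IsIntegral R g) ∧
      ∀ x : L, IsIntegral R x → ∃ n : ℕ, f ^ n • x ∈ Submodule.span R (G : Set L) := by
  classical
  obtain ⟨G, hG⟩ := ‹Module.Finite Rf (integralClosure Rf L)›.fg_top
  have hm : ∀ g : integralClosure Rf L, ∃ m : Submonoid.powers f, IsIntegral R (m • (g : L)) :=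
    fun g => IsIntegral.exists_multiple_integral_of_isLocalization (S := L) (Submonoid.powers f) (Rₘ := Rf) g.1 g.2
  choose m hm using hm
  refine ⟨G.image fun g => m g • (g : L), fun g hg => ?_, fun x hx => ?_⟩
  · obtain ⟨g, -, rfl⟩ := Finset.mem_image.mp hg
    exact hm g
  · have h1 : (⟨x, hx.tower_top (A := Rf)⟩ : integralClosure Rf L) ∈ Submodule.span Rf (G : Set (integralClosure Rf L)) := by
      rw [hG]; trivial
    have h2 : x ∈ Submodule.span Rf ((G.image fun g => m g • (g : L) : Finset L) : Set L) := by
      have h3 := Submodule.mem_map_of_mem (f := (integralClosure Rf L).val.toLinearMap) h1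
      rw [Submodule.map_span] at h3
      refine Submodule.span_le.mpr ?_ h3
      rintro - ⟨g, hg, rfl⟩
      have hu : IsUnit (algebraMap R Rf (m g : R)) := IsLocalization.map_units Rf (m g)
      refine (Submodule.smul_mem_iff_of_isUnit _ hu).mp ?_
      rw [algebraMap_smul]
      exact Submodule.subset_span (by rw [Finset.coe_image]; exact ⟨g, hg, rfl⟩)
    obtain ⟨⟨_, n, rfl⟩, hn⟩ := multiple_mem_span_of_mem_localization_span (Submonoid.powers f) Rf _ _ h2
    exact ⟨n, hn⟩

end Groth.Agent.N2Lib
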